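import Groth.Agent.FlatSeqLib.Basic
import Groth.Agent.ArtFree.Basic
import Groth.Agent.GenFree.Algebra
import Groth.Agent.FlatLocus.Descent

/-!
# The flattening ideal of a module which is free modulo a nilpotent ideal
-/

set_option autoImplicit false
set_option linter.style.haveILetI false
set_option backward.isDefEq.respectTransparency false

universe u

open TensorProduct Groth.Agent.GenFree Groth.Agent.FlatLocus

namespace Groth.Agent.FlattenGen

/-- A module which is free modulo a nilpotent ideal has a universal flattening ideal, contained in it. -/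
theorem exists_ideal {R : Type u} [CommRing R] (n : Ideal R) (hn : IsNilpotent n) (M : Type u) [AddCommGroup M]
    [Module R M] [Module.Free (R ⧸ n) ((R ⧸ n) ⊗[R] M)] :
    ∃ J : Ideal R, J ≤ n ∧ ∀ (T : Type u) [CommRing T] [Algebra R T],
      Module.Flat T (T ⊗[R] M) ↔ J.map (algebraMap R T) = ⊥ := by
  classical
  let b := Module.Free.chooseBasis (R ⧸ n) ((R ⧸ n) ⊗[R] M)
  have hsurj : Function.Surjective (fun m : M => (1 : R ⧸ n) ⊗ₜ[R] m) := by
    intro z
    induction z using TensorProduct.induction_on with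
    | zero => exact ⟨0, TensorProduct.tmul_zero _ _⟩
    | tmul c m =>
      obtain ⟨r, rfl⟩ := Ideal.Quotient.mk_surjective c
      refine ⟨r • m, ?_⟩
      show (1 : R ⧸ n) ⊗ₜ[R] (r • m) = _
      rw [← TensorProduct.smul_tmul, ← map_one (Ideal.Quotient.mk n), ← Ideal.Quotient.mk_eq_mk,
        ← Submodule.Quotient.mk_smul, smul_eq_mul, mul_one, Ideal.Quotient.mk_eq_mk]
    | add x y hx hy =>
      obtain ⟨p, rfl⟩ := hx
      obtain ⟨q, rfl⟩ := hy
      exact ⟨p + q, TensorProduct.tmul_add _ _ _⟩
  choose m hm using fun i => hsurj (b i)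
  let φ := Finsupp.linearCombination R (M := M) m
  let red : M →ₗ[R] (R ⧸ n) ⊗[R] M := TensorProduct.mk R (R ⧸ n) M 1
  have hred : ∀ (v : Module.Free.ChooseBasisIndex (R ⧸ n) ((R ⧸ n) ⊗[R] M) →₀ R),
      red (φ v) = Finsupp.linearCombination (R ⧸ n) (fun i => b i) (v.mapRange (Ideal.Quotient.mk n) (map_zero _)) := by
    intro v
    induction v using Finsupp.induction_linear with
    | zero => simp
    | add x y hx hy => rw [map_add, map_add, hx, hy, Finsupp.mapRange_add (map_add _), map_add]
    | single i r =>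
      rw [Finsupp.mapRange_single, Finsupp.linearCombination_single, Finsupp.linearCombination_single, map_smul]
      show r • ((1 : R ⧸ n) ⊗ₜ[R] m i) = Ideal.Quotient.mk n r • b i
      rw [show (1 : R ⧸ n) ⊗ₜ[R] m i = b i from hm i, ← Ideal.Quotient.algebraMap_eq, algebraMap_smul]
  have hker : ∀ v, φ v = 0 → ∀ i, v i ∈ n := fun v hv i => by
    have h0 := hred v
    rw [hv, map_zero] at h0
    have h1 := (linearIndependent_iff.1 b.linearIndependent) _ h0.symm
    have h2 := DFunLike.congr_fun h1 i
    rw [Finsupp.mapRange_apply, Finsupp.zero_apply] at h2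
    exact Ideal.Quotient.eq_zero_iff_mem.1 h2
  have hφ : Function.Surjective φ := by
    rw [← LinearMap.range_eq_top]
    refine ArtFree.eq_top_of_sup_smul_eq_top hn (eq_top_iff.2 fun x _ => ?_)
    obtain ⟨w, hw⟩ : ∃ w, Finsupp.linearCombination (R ⧸ n) (fun i => b i) w = red x :=
      ⟨b.repr (red x), b.linearCombination_repr (red x)⟩
    obtain ⟨v, rfl⟩ := Finsupp.mapRange_surjective (Ideal.Quotient.mk n) (map_zero _) Ideal.Quotient.mk_surjective w
    rw [← hred v] at hw
    rw [Submodule.mem_sup]
    refine ⟨φ v, LinearMap.mem_range_self _ _, x - φ v, ?_, add_sub_cancel _ _⟩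
    rw [← Submodule.Quotient.mk_eq_zero]
    apply (TensorProduct.quotTensorEquivQuotSMul M n).symm.injective
    rw [map_zero, TensorProduct.quotTensorEquivQuotSMul_symm_mk]
    show red (x - φ v) = 0
    rw [map_sub, hw, sub_self]
  let J : Ideal R := Ideal.span {r | ∃ v, φ v = 0 ∧ ∃ i, v i = r}
  refine ⟨J, Ideal.span_le.2 ?_, fun T _ _ => ?_⟩
  · rintro _ ⟨v, hv, i, rfl⟩
    exact hker v hv i
  let e := TensorProduct.finsuppScalarRight R T T (Module.Free.ChooseBasisIndex (R ⧸ n) ((R ⧸ n) ⊗[R] M))
  have hex : Function.Exact (LinearMap.lTensor T (LinearMap.ker φ).subtype) (φ.lTensor T) :=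
    lTensor_exact T (LinearMap.exact_iff.2 (Submodule.range_subtype _).symm) hφ
  have hsT : Function.Surjective (φ.baseChange T) := LinearMap.lTensor_surjective T hφ
  have hcoord : ∀ (t : T) (v : Module.Free.ChooseBasisIndex (R ⧸ n) ((R ⧸ n) ⊗[R] M) →₀ R) i,
      e (t ⊗ₜ v) i = algebraMap R T (v i) * t := fun t v i => by
    rw [TensorProduct.finsuppScalarRight_apply_tmul_apply, Algebra.smul_def]
  constructor
  · intro hflat
    let K' := LinearMap.ker (φ.baseChange T)
    let eK := (φ.baseChange T).quotKerEquivOfSurjective hsT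
    haveI : Module.Flat T (_ ⧸ K') := Module.Flat.of_linearEquiv eK
    let nT := n.map (algebraMap R T)
    have hmem : ∀ z ∈ K', z ∈ nT • (⊤ : Submodule T (T ⊗[R] (Module.Free.ChooseBasisIndex (R ⧸ n) ((R ⧸ n) ⊗[R] M) →₀ R))) := by
      intro z hz
      obtain ⟨w, rfl⟩ := (hex z).1 hz
      induction w using TensorProduct.induction_on with
      | zero => rw [map_zero]; exact zero_mem _
      | add x y hx hy => rw [map_add]; exact add_mem (hx ((hex _).2 ⟨x, rfl⟩)) (hy ((hex _).2 ⟨y, rfl⟩))
      | tmul t v =>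
        rw [LinearMap.lTensor_tmul, Submodule.subtype_apply, ← Finsupp.sum_single v.1, Finsupp.sum, TensorProduct.tmul_sum]
        refine sum_mem fun i _ => ?_
        rw [← Finsupp.smul_single_one i (v.1 i), ← TensorProduct.smul_tmul, Algebra.smul_def,
          ← smul_eq_mul, ← TensorProduct.smul_tmul']
        exact Submodule.smul_mem_smul (Ideal.mem_map_of_mem _ (hker v.1 v.2 i)) trivial
    have hpow : ∀ k : ℕ, K' ≤ nT ^ k • K' := by
      intro k
      induction k with
      | zero => simp
      | succ k ih =>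
        refine ih.trans ?_
        rw [pow_succ, Submodule.mul_smul]
        exact Submodule.smul_mono le_rfl fun z hz => FlatSeqLib.inf_smul_le_of_flat_quotient K' nT ⟨hz, hmem z hz⟩
    obtain ⟨N, hN⟩ := hn
    have hK : K' = ⊥ := eq_bot_iff.2 ((hpow N).trans (by
      rw [show nT ^ N = ⊥ from by rw [← Ideal.map_pow, hN, Ideal.zero_eq_bot, Ideal.map_bot], Submodule.bot_smul]))
    rw [Ideal.map_span, Ideal.span_eq_bot]
    rintro _ ⟨_, ⟨v, hv, i, rfl⟩, rfl⟩
    have h0 : (1 : T) ⊗ₜ[R] v ∈ K' := by
      show φ.baseChange T (1 ⊗ₜ v) = 0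
      rw [LinearMap.baseChange_tmul, hv, TensorProduct.tmul_zero]
    rw [hK, Submodule.mem_bot] at h0
    have h1 := hcoord 1 v i
    rw [h0, map_zero, Finsupp.zero_apply, mul_one] at h1
    exact h1.symm
  · intro hJ
    have hinj : Function.Injective (φ.baseChange T) := by
      rw [← LinearMap.ker_eq_bot, eq_bot_iff]
      intro z hz
      obtain ⟨w, rfl⟩ := (hex z).1 hz
      rw [Submodule.mem_bot]
      apply e.injective
      rw [map_zero]
      induction w using TensorProduct.induction_on with
      | zero => rw [map_zero, map_zero]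
      | add x y hx hy => rw [map_add, map_add, hx ((hex _).2 ⟨x, rfl⟩), hy ((hex _).2 ⟨y, rfl⟩), add_zero]
      | tmul t v =>
        ext i
        rw [LinearMap.lTensor_tmul, Submodule.subtype_apply, hcoord, Finsupp.zero_apply,
          show algebraMap R T (v.1 i) = 0 from ?_, zero_mul]
        have := Ideal.mem_map_of_mem (algebraMap R T) (show v.1 i ∈ J from Ideal.subset_span ⟨v.1, v.2, i, rfl⟩)
        rwa [hJ] at this
    exact Module.Flat.of_linearEquiv (LinearEquiv.ofBijective (φ.baseChange T) ⟨hinj, hsT⟩).symm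

/-- Base change of a quotient of a free module over a polynomial ring. -/
theorem nonempty_locN_equiv {R A : Type u} [CommRing R] [CommRing A] [Algebra R A] {a n : ℕ}
    (N : Submodule (MvPolynomial (Fin n) R) (FreeMod R a n)) :
    Nonempty (A ⊗[R] (FreeMod R a n ⧸ N) ≃ₗ[A] (FreeMod A a n ⧸ locN A N)) := by
  let Φ : A ⊗[R] (FreeMod R a n ⧸ N) →ₗ[A] (FreeMod A a n ⧸ locN A N) :=
    LinearMap.liftBaseChange A (psi A N)
  let π : FreeMod R a n →ₗ[R] (FreeMod R a n ⧸ N) := N.mkQ.restrictScalars R
  have hΦ : ∀ z : FreeMod R a n ⊗[R] A,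
      Φ (π.lTensor A (TensorProduct.comm R _ _ z)) = Submodule.Quotient.mk (extMap A z) := fun z => by
    induction z using TensorProduct.induction_on with
    | zero => simp
    | tmul v c => simp [Φ, π, psi_mk, Submodule.Quotient.mk_smul]
    | add x y hx hy => simp only [map_add, hx, hy, Submodule.Quotient.mk_add]
  refine ⟨LinearEquiv.ofBijective Φ ⟨?_, fun y => ?_⟩⟩
  · rw [injective_iff_map_eq_zero]
    intro x hx
    obtain ⟨z, rfl⟩ := LinearMap.lTensor_surjective A (g := π) (Submodule.mkQ_surjective N) x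
    obtain ⟨z, rfl⟩ := (TensorProduct.comm R _ _).surjective z
    rw [hΦ, Submodule.Quotient.mk_eq_zero] at hx
    obtain ⟨k, c, v, hv⟩ := Submodule.mem_span_set'.mp (mem_span_of_mem_locN A N hx)
    choose w hwN hw using fun j => (v j).2
    have hz : z = ∑ j, w j ⊗ₜ[R] c j := extMap_injective A (by
      rw [map_sum, ← hv]
      exact Finset.sum_congr rfl fun j _ => by rw [extMap_tmul, hw])
    rw [hz, map_sum, map_sum]
    refine Finset.sum_eq_zero fun j _ => ?_
    rw [TensorProduct.comm_tmul, LinearMap.lTensor_tmul, show π (w j) = 0 from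
      (Submodule.Quotient.mk_eq_zero N).2 (hwN j), TensorProduct.tmul_zero]
  · obtain ⟨v, rfl⟩ := Submodule.Quotient.mk_surjective _ y
    classical
    refine ⟨π.lTensor A (TensorProduct.comm R _ _ (∑ i ∈ (finite_support v).toFinset, single i ⊗ₜ[R] co i v)), ?_⟩
    rw [hΦ, map_sum]
    congr 1
    conv_rhs => rw [eq_sum_single v fun i hi => (finite_support v).mem_toFinset.mpr hi]
    exact Finset.sum_congr rfl fun i _ => by rw [extMap_tmul, phi_single]

end Groth.Agent.FlattenGen
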