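import Groth.Agent.FlattenGenLib.Algebra

/-!
# Flattening ideals near the generic point of an irreducible affine scheme
-/

set_option autoImplicit false
set_option linter.style.haveILetI false
set_option backward.isDefEq.respectTransparency false
set_option maxHeartbeats 1000000

universe u

open TensorProduct Groth.Agent.GenFree Groth.Agent.FlatLocus

namespace Groth.Agent.FlattenGen

theorem free_reduced {S D Q R : Type u} [CommRing S] [CommRing D] [CommRing Q] [CommRing R] [Algebra S D]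
    [Algebra D Q] [Algebra S Q] [IsScalarTower S D Q] [Algebra S R] [Algebra R Q] [IsScalarTower S R Q] {a m : ℕ}
    (N0 : Submodule (MvPolynomial (Fin m) S) (FreeMod S a m)) {f : D}
    (hfree : FreeAt D (FreeMod D a m ⧸ locN D N0) f) (hu : IsUnit (algebraMap D Q f)) :
    Module.Free Q (Q ⊗[R] (R ⊗[S] (FreeMod S a m ⧸ N0))) := by
  haveI := hfree.free Q hu
  obtain ⟨e⟩ := nonempty_locN_equiv (A := D) N0
  exact Module.Free.of_equiv ((AlgebraTensorModule.congr (LinearEquiv.refl Q Q) e).symm.trans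
    ((AlgebraTensorModule.cancelBaseChange S D Q Q (FreeMod S a m ⧸ N0)).trans
      (AlgebraTensorModule.cancelBaseChange S R Q Q (FreeMod S a m ⧸ N0)).symm))

theorem flat_tensor_iff {S A T R : Type u} [CommRing S] [CommRing A] [CommRing T] [CommRing R] [Algebra S A]
    [Algebra A T] [Algebra S T] [IsScalarTower S A T] [Algebra S R] [Algebra R T] [IsScalarTower S R T] {a m : ℕ}
    (N0 : Submodule (MvPolynomial (Fin m) S) (FreeMod S a m))
    (N : Submodule (MvPolynomial (Fin m) A) (FreeMod A a m)) (hN : locN A N0 = N) :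
    Module.Flat T (T ⊗[A] (FreeMod A a m ⧸ N)) ↔ Module.Flat T (T ⊗[R] (R ⊗[S] (FreeMod S a m ⧸ N0))) := by
  subst hN
  obtain ⟨e⟩ := nonempty_locN_equiv (A := A) N0
  let e1 := (AlgebraTensorModule.congr (LinearEquiv.refl T T) e).symm.trans
    ((AlgebraTensorModule.cancelBaseChange S A T T (FreeMod S a m ⧸ N0)).trans
      (AlgebraTensorModule.cancelBaseChange S R T T (FreeMod S a m ⧸ N0)).symm)
  exact ⟨fun hfl => Module.Flat.of_linearEquiv e1.symm, fun hfl => Module.Flat.of_linearEquiv e1⟩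

theorem exists_ideals {S R : Type u} [CommRing S] [CommRing R] [Algebra S R] (n0 : Ideal S) (hn0 : IsNilpotent n0)
    {a m : ℕ} (N0 : Submodule (MvPolynomial (Fin m) S) (FreeMod S a m)) {f : S ⧸ n0}
    (hfree : FreeAt (S ⧸ n0) (FreeMod (S ⧸ n0) a m ⧸ locN (S ⧸ n0) N0) f) {s : S} (hs : f ∣ Ideal.Quotient.mk n0 s)
    (hu : IsUnit (algebraMap S R s)) :
    ∃ J : Ideal R, J ≤ n0.map (algebraMap S R) ∧ ∀ (T : Type u) [CommRing T] [Algebra R T],
      Module.Flat T (T ⊗[R] (R ⊗[S] (FreeMod S a m ⧸ N0))) ↔ J.map (algebraMap R T) = ⊥ := by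
  let n := n0.map (algebraMap S R)
  have hn : IsNilpotent n := by
    obtain ⟨k, hk⟩ := hn0
    exact ⟨k, by rw [← Ideal.map_pow, hk, Ideal.zero_eq_bot, Ideal.map_bot, Ideal.zero_eq_bot]⟩
  have hu' : IsUnit (algebraMap (S ⧸ n0) (R ⧸ n) f) := by
    refine isUnit_of_dvd_unit (map_dvd _ hs) ?_
    rw [← Ideal.Quotient.algebraMap_eq, ← IsScalarTower.algebraMap_apply S (S ⧸ n0) (R ⧸ n),
      IsScalarTower.algebraMap_apply S R (R ⧸ n)]
    exact hu.map (algebraMap R (R ⧸ n))
  haveI := free_reduced (S := S) (D := S ⧸ n0) (Q := R ⧸ n) (R := R) N0 hfree hu'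
  exact exists_ideal n hn (R ⊗[S] (FreeMod S a m ⧸ N0))

theorem exists_family {A : Type u} [CommRing A] [IrreducibleSpace (PrimeSpectrum A)] {ι : Type u} [Finite ι]
    (a m : ι → ℕ) (N : ∀ i, Submodule (MvPolynomial (Fin (m i)) A) (FreeMod A (a i) (m i))) (hN : ∀ i, (N i).FG) :
    ∃ (h : A) (_ : ¬ IsNilpotent h) (J : Ideal (Localization.Away h)) (_ : J.FG)
      (_ : J ≤ nilradical (Localization.Away h)),
      ∀ (T : Type u) [CommRing T] [Algebra A T] [Algebra (Localization.Away h) T]
        [IsScalarTower A (Localization.Away h) T],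
        (∀ i, Module.Flat T (T ⊗[A] (FreeMod A (a i) (m i) ⧸ N i))) ↔
          J.map (algebraMap (Localization.Away h) T) = ⊥ := by
  classical
  haveI : Fintype ι := Fintype.ofFinite ι
  choose G hG using hN
  let cs : Finset A := Finset.univ.biUnion fun i => (G i).biUnion fun g =>
    (finite_support g).toFinset.image fun j => co j g
  let S : Subalgebra ℤ A := Algebra.adjoin ℤ (cs : Set A)
  haveI : IsNoetherianRing S := isNoetherianRing_of_fg (Subalgebra.fg_adjoin_finset cs)
  have hcs : ∀ i, ∀ g ∈ (G i : Set (FreeMod A (a i) (m i))), ∀ j, ∃ x : S, algebraMap S A x = co j g := fun i g hg j => by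
    by_cases h0 : co j g = 0
    · exact ⟨0, by rw [map_zero, h0]⟩
    · exact ⟨⟨co j g, Algebra.subset_adjoin (Finset.mem_biUnion.2 ⟨i, Finset.mem_univ _, Finset.mem_biUnion.2
        ⟨g, hg, Finset.mem_image_of_mem _ ((finite_support g).mem_toFinset.2 h0)⟩⟩)⟩, rfl⟩
  choose N0 hN0 using fun i => exists_locN_eq (R := A) S (N i) (G i : Set _) (hG i) (hcs i)
  let n0 := nilradical S
  have hn0 : n0 = (nilradical A).comap (algebraMap S A) := by
    ext x
    rw [mem_nilradical, Ideal.mem_comap, mem_nilradical]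
    exact (IsNilpotent.map_iff (f := algebraMap S A) Subtype.val_injective).symm
  haveI hprA : (nilradical A).IsPrime := PrimeSpectrum.irreducibleSpace_iff_isPrime_nilradical.1 ‹_›
  haveI : n0.IsPrime := hn0 ▸ Ideal.IsPrime.comap _
  let D := S ⧸ n0
  have hgen : ∀ i, ∃ f : D, f ≠ 0 ∧ FreeAt D (FreeMod D (a i) (m i) ⧸ locN D (N0 i)) f := fun i => by
    obtain ⟨f, -, hf, hfree, -⟩ := exists_generic (R := D) (S := MvPolynomial (Fin (m i)) D)
      (M := FreeMod D (a i) (m i) ⧸ locN D (N0 i)) (one_ne_zero (α := D))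
    exact ⟨f, hf, hfree⟩
  choose f hf hfree using hgen
  obtain ⟨h0, hh0⟩ := Ideal.Quotient.mk_surjective (∏ i, f i)
  have hh : ¬ IsNilpotent (algebraMap S A h0) := fun hnil => by
    have : h0 ∈ n0 := by rw [hn0]; exact mem_nilradical.2 hnil
    rw [← Ideal.Quotient.eq_zero_iff_mem, hh0] at this
    exact Finset.prod_ne_zero_iff.2 (fun i _ => hf i) this
  let R := Localization.Away h0
  haveI : IsNoetherianRing R := IsLocalization.isNoetherianRing (Submonoid.powers h0) R inferInstance
  let n := n0.map (algebraMap S R)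
  have hn : IsNilpotent n := by
    obtain ⟨k, hk⟩ := IsNoetherianRing.isNilpotent_nilradical S
    exact ⟨k, by rw [← Ideal.map_pow, hk, Ideal.zero_eq_bot, Ideal.map_bot, Ideal.zero_eq_bot]⟩
  have hJ := fun i => exists_ideals (R := R) n0 (IsNoetherianRing.isNilpotent_nilradical S) (N0 i) (hfree i)
    (hh0 ▸ Finset.dvd_prod_of_mem f (Finset.mem_univ i)) (IsLocalization.Away.algebraMap_isUnit h0)
  choose J hJn hJflat using hJ
  let h := algebraMap S A h0
  let A' := Localization.Away h
  have hu : IsUnit (((algebraMap A A').comp (algebraMap S A)) h0) := IsLocalization.Away.algebraMap_isUnit h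
  let ρ : R →+* A' := IsLocalization.Away.lift h0 hu
  letI : Algebra R A' := ρ.toAlgebra
  refine ⟨h, hh, (⨆ i, J i).map ρ, Ideal.FG.map (IsNoetherian.noetherian (⨆ i, J i)) ρ, ?_, fun T _ _ _ _ => ?_⟩
  · refine Ideal.map_le_iff_le_comap.2 (iSup_le fun i x hx => ?_)
    obtain ⟨k, hk⟩ := hn
    refine mem_nilradical.2 (IsNilpotent.map ⟨k, ?_⟩ ρ)
    have := Ideal.pow_mem_pow (hJn i hx) k
    rwa [hk, Ideal.zero_eq_bot, Ideal.mem_bot] at this
  letI : Algebra R T := ((algebraMap A' T).comp ρ).toAlgebra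
  haveI : IsScalarTower R A' T := IsScalarTower.of_algebraMap_eq fun r => rfl
  haveI : IsScalarTower S A T := inferInstance
  haveI : IsScalarTower S R T := IsScalarTower.of_algebraMap_eq fun r => by
    show algebraMap S T r = algebraMap A' T (ρ (algebraMap S R r))
    rw [IsLocalization.Away.lift_eq, RingHom.comp_apply, ← IsScalarTower.algebraMap_apply A A' T,
      ← IsScalarTower.algebraMap_apply S A T]
  have key : ∀ i, Module.Flat T (T ⊗[A] (FreeMod A (a i) (m i) ⧸ N i)) ↔ (J i).map (algebraMap R T) = ⊥ := fun i => by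
    rw [← hJflat i T]
    exact flat_tensor_iff (N0 i) (N i) (hN0 i)
  simp only [key]
  rw [Ideal.map_map, Ideal.map_iSup, iSup_eq_bot]
  exact Iff.rfl

end Groth.Agent.FlattenGen
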