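import Groth.Agent.PullbackMod.Flat
import Groth.Agent.PullbackMod.Props
import Groth.Agent.QCohLib.FPSections
import Groth.Agent.FlattenGenLib.Family
import Groth.Agent.FlatModLib.Affine

/-!
# Flatness of a pullback over an affine base, read on the sections of an affine cover
-/

set_option autoImplicit false
set_option linter.style.haveILetI false
set_option backward.isDefEq.respectTransparency false
set_option maxHeartbeats 1000000

universe u

open CategoryTheory CategoryTheory.Limits AlgebraicGeometry TopologicalSpace TensorProduct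

namespace Groth.Agent.FlattenGen

section algebra

variable {Γ Γ' B B' M M' : Type u} [CommRing Γ] [CommRing Γ'] [CommRing B] [CommRing B']
  [Algebra Γ Γ'] [Algebra Γ B] [Algebra Γ' B'] [Algebra B B'] [Algebra Γ B']
  [IsScalarTower Γ Γ' B'] [IsScalarTower Γ B B'] [Algebra.IsPushout Γ Γ' B B']
  [AddCommGroup M] [Module B M] [Module Γ M] [IsScalarTower Γ B M] [AddCommGroup M'] [Module B' M']
  [Module Γ' M'] [IsScalarTower Γ' B' M'] [Module B M'] [IsScalarTower B B' M']

theorem flat_pushout_iff (θ : M →ₗ[B] M') (hθ : IsBaseChange B' θ) :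
    Module.Flat Γ' M' ↔ Module.Flat Γ' (Γ' ⊗[Γ] M) := by
  let e := ((hθ.equiv.restrictScalars Γ').symm.trans (Algebra.IsPushout.cancelBaseChange Γ Γ' B B' M))
  exact ⟨fun h => Module.Flat.of_linearEquiv e.symm, fun h => Module.Flat.of_linearEquiv e⟩

end algebra

theorem flat_transport {A A' Γ Γ' M : Type u} [CommRing A] [CommRing A'] [CommRing Γ] [CommRing Γ']
    [Algebra A A'] [Algebra A Γ] [Algebra A' Γ'] [Algebra Γ Γ'] [Algebra A Γ'] [IsScalarTower A A' Γ']
    [IsScalarTower A Γ Γ'] (h1 : Function.Surjective (algebraMap A Γ))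
    (h2 : Function.Bijective (algebraMap A' Γ'))
    [AddCommGroup M] [Module A M] [Module Γ M] [IsScalarTower A Γ M] :
    Module.Flat Γ' (Γ' ⊗[Γ] M) ↔ Module.Flat A' (A' ⊗[A] M) := by
  haveI : TensorProduct.CompatibleSMul A Γ Γ' M := ⟨fun r m n => by
    obtain ⟨r, rfl⟩ := h1 r
    rw [algebraMap_smul, algebraMap_smul, TensorProduct.smul_tmul]⟩
  haveI : Module.FaithfullyFlat A' Γ' :=
    Module.FaithfullyFlat.of_linearEquiv A' A' (LinearEquiv.ofBijective (Algebra.linearMap A' Γ') h2).symm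
  let e : Γ' ⊗[Γ] M ≃ₗ[Γ'] Γ' ⊗[A'] (A' ⊗[A] M) :=
    (TensorProduct.equivOfCompatibleSMul A Γ Γ' Γ' M).trans
      (AlgebraTensorModule.cancelBaseChange A A' Γ' Γ' M).symm
  rw [← Module.Flat.iff_flat_tensorProduct (R := A') (M := A' ⊗[A] M) Γ']
  exact ⟨fun h => Module.Flat.of_linearEquiv e.symm, fun h => Module.Flat.of_linearEquiv e⟩

variable {A : Type u} [CommRing A] {X : Scheme.{u}} (f : X ⟶ Spec (CommRingCat.of A))

/-- The ring map from the base to the sections over an open. -/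
noncomputable abbrev toSec (W : X.Opens) : A →+* Γ(X, W) :=
  ((Scheme.ΓSpecIso (CommRingCat.of A)).inv ≫ f.appLE ⊤ W (fun _ _ => trivial)).hom

/-- The sections of a module as a module over the base. -/
noncomputable abbrev secModule (F : X.Modules) (W : X.Opens) : Module A Γ(F, W) :=
  Module.compHom _ (toSec f W)

/-- Flatness of the pullback of the sections. -/
def SecFlatBC (F : X.Modules) (W : X.Opens) (A' : Type u) [CommRing A'] [Algebra A A'] : Prop :=
  letI := secModule f F W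
  Module.Flat A' (A' ⊗[A] Γ(F, W))

theorem isFlatOver_pullback_iff (F : X.Modules) [Coh.IsQCoh F] {ι : Type u} (W : ι → X.Opens)
    (hW : ∀ i, IsAffineOpen (W i)) (hcov : ∀ x : X, ∃ i, x ∈ W i) (A' : Type u) [CommRing A'] [Algebra A A'] :
    letI g : Spec (CommRingCat.of A') ⟶ Spec (CommRingCat.of A) :=
      Spec.map (CommRingCat.ofHom (algebraMap A A'))
    FlatMod.IsFlatOver (pullback.snd f g) ((Scheme.Modules.pullback (pullback.fst f g)).obj F) ↔
      ∀ i, SecFlatBC f F (W i) A' := by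
  let S := Spec (CommRingCat.of A)
  let S' := Spec (CommRingCat.of A')
  let g : S' ⟶ S := Spec.map (CommRingCat.ofHom (algebraMap A A'))
  let pr := pullback.fst f g
  let q := pullback.snd f g
  let gF := (Scheme.Modules.pullback pr).obj F
  haveI : Coh.IsQCoh gF := PullbackMod.isQCoh_pullback pr F
  have hV : IsAffineOpen (⊤ : S.Opens) := isAffineOpen_top S
  have hV' : IsAffineOpen (⊤ : S'.Opens) := isAffineOpen_top S'
  have hkey : ∀ i, IsAffineOpen (pr ⁻¹ᵁ W i ⊓ q ⁻¹ᵁ ⊤) ∧
      (FlatModLib.SecFlat q gF (pr ⁻¹ᵁ W i ⊓ q ⁻¹ᵁ ⊤) ⊤ inf_le_right ↔ SecFlatBC f F (W i) A') := by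
    intro i
    have e : W i ≤ f ⁻¹ᵁ ⊤ := fun _ _ => trivial
    have e' : (⊤ : S'.Opens) ≤ g ⁻¹ᵁ ⊤ := fun _ _ => trivial
    obtain ⟨hW', hpo⟩ := PullbackMod.isPushout_appLE (IsPullback.of_hasPullback f g) hV (hW i) hV' e e'
    refine ⟨hW', ?_⟩
    let W' := pr ⁻¹ᵁ W i ⊓ q ⁻¹ᵁ ⊤
    letI : Algebra Γ(S, ⊤) Γ(X, W i) := (f.appLE ⊤ (W i) e).hom.toAlgebra
    letI : Algebra Γ(S, ⊤) Γ(S', ⊤) := (g.appLE ⊤ ⊤ e').hom.toAlgebra
    letI : Algebra Γ(X, W i) Γ(pullback f g, W') := (pr.appLE (W i) W' inf_le_left).hom.toAlgebra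
    letI : Algebra Γ(S', ⊤) Γ(pullback f g, W') := (q.appLE ⊤ W' inf_le_right).hom.toAlgebra
    letI : Algebra Γ(S, ⊤) Γ(pullback f g, W') :=
      ((pr.appLE (W i) W' inf_le_left).hom.comp (f.appLE ⊤ (W i) e).hom).toAlgebra
    haveI : IsScalarTower Γ(S, ⊤) Γ(X, W i) Γ(pullback f g, W') := .of_algebraMap_eq fun _ => rfl
    haveI : IsScalarTower Γ(S, ⊤) Γ(S', ⊤) Γ(pullback f g, W') := .of_algebraMap_eq' (by
      show ((f.appLE ⊤ (W i) e) ≫ pr.appLE (W i) _ inf_le_left).hom =
        ((g.appLE ⊤ ⊤ e') ≫ q.appLE ⊤ _ inf_le_right).hom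
      simp only [Scheme.Hom.appLE_comp_appLE, pr, q, pullback.condition])
    haveI : Algebra.IsPushout Γ(S, ⊤) Γ(S', ⊤) Γ(X, W i) Γ(pullback f g, W') := hpo
    letI : Module Γ(S, ⊤) Γ(F, W i) := Module.compHom _ (f.appLE ⊤ (W i) e).hom
    haveI : IsScalarTower Γ(S, ⊤) Γ(X, W i) Γ(F, W i) := .of_algebraMap_smul fun _ _ => rfl
    letI : Module Γ(S', ⊤) Γ(gF, W') := Module.compHom _ (q.appLE ⊤ W' inf_le_right).hom
    haveI : IsScalarTower Γ(S', ⊤) Γ(pullback f g, W') Γ(gF, W') := .of_algebraMap_smul fun _ _ => rfl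
    letI : Module Γ(X, W i) Γ(gF, W') := Module.compHom _ (pr.appLE (W i) W' inf_le_left).hom
    haveI : IsScalarTower Γ(X, W i) Γ(pullback f g, W') Γ(gF, W') := .of_algebraMap_smul fun _ _ => rfl
    show Module.Flat Γ(S', ⊤) Γ(gF, W') ↔ _
    rw [flat_pushout_iff (Γ := Γ(S, ⊤)) (PullbackMod.pullMapL pr F inf_le_left)
      (PullbackMod.isBaseChange_pullMapL pr F (hW i) hW' inf_le_left)]
    letI := secModule f F (W i)
    letI : Algebra A Γ(S, ⊤) := (Scheme.ΓSpecIso (CommRingCat.of A)).inv.hom.toAlgebra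
    letI : Algebra A' Γ(S', ⊤) := (Scheme.ΓSpecIso (CommRingCat.of A')).inv.hom.toAlgebra
    letI : Algebra A Γ(S', ⊤) :=
      ((Scheme.ΓSpecIso (CommRingCat.of A')).inv.hom.comp (algebraMap A A')).toAlgebra
    haveI : IsScalarTower A A' Γ(S', ⊤) := .of_algebraMap_eq fun _ => rfl
    haveI : IsScalarTower A Γ(S, ⊤) Γ(S', ⊤) := .of_algebraMap_eq' (by
      show ((CommRingCat.ofHom (algebraMap A A')) ≫ (Scheme.ΓSpecIso (CommRingCat.of A')).inv).hom =
        ((Scheme.ΓSpecIso (CommRingCat.of A)).inv ≫ g.appLE ⊤ ⊤ e').hom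
      congr 1
      rw [Scheme.ΓSpecIso_inv_naturality]
      simp [g, Scheme.Hom.appTop, Scheme.Hom.app_eq_appLE])
    haveI : IsScalarTower A Γ(S, ⊤) Γ(F, W i) := .of_algebraMap_smul fun _ _ => rfl
    exact flat_transport (ConcreteCategory.bijective_of_isIso (Scheme.ΓSpecIso (CommRingCat.of A)).inv).2
      (ConcreteCategory.bijective_of_isIso (Scheme.ΓSpecIso (CommRingCat.of A')).inv)
  constructor
  · intro h i
    exact (hkey i).2.1 (FlatModLib.secFlat_of_isFlatOver q gF (hkey i).1 hV' inf_le_right fun x _ => h x)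
  · intro h x
    obtain ⟨i, hi⟩ := hcov (pr x)
    exact FlatModLib.isFlatOverAt_of_secFlat q gF (hkey i).1 hV' inf_le_right ((hkey i).2.2 (h i)) x ⟨hi, trivial⟩

/-- Sections of a finitely presented module as a quotient of a free module over a polynomial ring. -/
theorem exists_presentation [LocallyOfFinitePresentation f] (F : X.Modules) [Coh.IsQCoh F] (hF : CohB1.IsFP F)
    {W : X.Opens} (hW : IsAffineOpen W) :
    ∃ (a m : ℕ) (N : Submodule (MvPolynomial (Fin m) A) (GenFree.FreeMod A a m)), N.FG ∧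
      (letI := secModule f F W; Nonempty (Γ(F, W) ≃ₗ[A] (GenFree.FreeMod A a m ⧸ N))) := by
  letI := secModule f F W
  letI : Algebra A Γ(X, W) := (toSec f W).toAlgebra
  haveI : IsScalarTower A Γ(X, W) Γ(F, W) := .of_algebraMap_smul fun _ _ => rfl
  haveI : Algebra.FinitePresentation A Γ(X, W) := by
    have h := f.finitePresentation_appLE (isAffineOpen_top _) hW (fun _ _ => trivial : W ≤ f ⁻¹ᵁ ⊤)
    exact h.comp (RingHom.FinitePresentation.of_surjective _
      (ConcreteCategory.bijective_of_isIso (Scheme.ΓSpecIso (CommRingCat.of A)).inv).2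
      (by
        rw [(RingHom.injective_iff_ker_eq_bot _).1
          (show Function.Injective (Scheme.ΓSpecIso (CommRingCat.of A)).inv.hom' from
            (ConcreteCategory.bijective_of_isIso (Scheme.ΓSpecIso (CommRingCat.of A)).inv).1)]
        exact Submodule.fg_bot))
  haveI : Module.FinitePresentation Γ(X, W) Γ(F, W) := QCohLib.finitePresentation_sections F hF hW
  obtain ⟨m, π, hπ, hker⟩ := Algebra.FinitePresentation.out (R := A) (A := Γ(X, W))
  let P := MvPolynomial (Fin m) A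
  letI : Algebra P Γ(X, W) := π.toRingHom.toAlgebra
  haveI : IsScalarTower A P Γ(X, W) := .of_algebraMap_eq fun r => (π.commutes r).symm
  haveI : Module.FinitePresentation P Γ(X, W) :=
    Module.finitePresentation_of_surjective (Algebra.linearMap P Γ(X, W)) hπ hker
  letI := Module.compHom Γ(F, W) π.toRingHom
  haveI : IsScalarTower P Γ(X, W) Γ(F, W) := .of_algebraMap_smul fun _ _ => rfl
  haveI : IsScalarTower A P Γ(F, W) := .of_algebraMap_smul fun r x => by
    show π (algebraMap A P r) • x = r • x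
    rw [π.commutes, algebraMap_smul]
  haveI := Module.FinitePresentation.trans P Γ(F, W) Γ(X, W)
  obtain ⟨a, N, e, hN⟩ := Module.FinitePresentation.exists_fin P Γ(F, W)
  exact ⟨a, m, N, hN, ⟨e.restrictScalars A⟩⟩

end Groth.Agent.FlattenGen
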